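import Groth.Agent.Etbc.H197.LocIndex
import Groth.Agent.Etbc.H226.IndexQuot
import Groth.Agent.Etbc.H226.NFDefs

/-!
# Local index: the forms used by the number field package

* `idx_eq_cok`, `tor_eq_tor`: comparison of `H226.IndexQuot` and `Etcore.Herbrand`.
* `C1`: `(kˣ : kˣ ^ ℓ) = ℓ ^ 2 * #(R / ℓ R)`.
-/

set_option autoImplicit false

namespace Groth.Agent.Etbc.H197.C1

open Groth.Agent.Etbc.H226

theorem idx_eq_cok (n : ℕ) (M : Type*) [AddCommGroup M] :
    IndexQuot.idx n M = Groth.Agent.Etcore.Herbrand.cok n M := by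
  have h : (nsmulAddMonoidHom (α := M) n).range =
      (LinearMap.range (Groth.Agent.Etcore.Herbrand.mulN n M)).toAddSubgroup := by
    ext x
    constructor
    · rintro ⟨y, rfl⟩
      exact ⟨y, Groth.Agent.Etcore.Herbrand.mulN_apply n y⟩
    · rintro ⟨y, rfl⟩
      exact ⟨y, (Groth.Agent.Etcore.Herbrand.mulN_apply n y).symm⟩
  rw [IndexQuot.idx, h]
  rfl

theorem tor_eq_tor (n : ℕ) (M : Type*) [AddCommGroup M] :
    IndexQuot.tor n M = Groth.Agent.Etcore.Herbrand.tor n M := by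
  rw [Groth.Agent.Etcore.Herbrand.tor_eq]
  rfl

theorem tor_units_of_primitive (n : ℕ) (hn : n ≠ 0) (A : Type*) [CommRing A] [IsDomain A]
    (h : ∃ ζ : A, IsPrimitiveRoot ζ n) : IndexQuot.tor n (Additive Aˣ) = n := by
  rw [tor_eq_tor]
  exact LocIndex.tor_units_of_primitive n hn A h

theorem C1 (R k : Type*) [CommRing R] [IsDomain R] [IsDiscreteValuationRing R]
    [HenselianLocalRing R] [Field k] [Algebra R k] [IsFractionRing R k] [CharZero k]
    [Finite (IsLocalRing.ResidueField R)] (ℓ : ℕ) [Fact ℓ.Prime] (hζ : ∃ ζ : k, IsPrimitiveRoot ζ ℓ) :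
    IndexQuot.idx ℓ (Additive kˣ) = ℓ ^ 2 * Nat.card (R ⧸ Ideal.span {(ℓ : R)}) := by
  rw [idx_eq_cok]
  exact LocIndex.cok_field_of_primitive R k ℓ
    (Nat.cast_ne_zero.2 (Fact.out : ℓ.Prime).ne_zero) hζ

/-- general form: `ℓ` need not be prime and roots of unity need not be contained in `k` -/
theorem idx_field (R k : Type*) [CommRing R] [IsDomain R] [IsDiscreteValuationRing R]
    [HenselianLocalRing R] [Field k] [Algebra R k] [IsFractionRing R k]
    [Finite (IsLocalRing.ResidueField R)] (m : ℕ) (hm : (m : k) ≠ 0) :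
    IndexQuot.idx m (Additive kˣ) =
      m * Nat.card (R ⧸ Ideal.span {(m : R)}) * IndexQuot.tor m (Additive kˣ) := by
  rw [idx_eq_cok, tor_eq_tor]
  exact LocIndex.cok_field R k m hm

/-- the form NF2 -/
theorem cok_units (p : ℕ) [Fact p.Prime] (O E : Type*) [CommRing O] [IsDomain O] [IsDiscreteValuationRing O]
    [HenselianLocalRing O] [Finite (IsLocalRing.ResidueField O)] [Field E] [Algebra O E] [IsFractionRing O E]
    (hp : (p : E) ≠ 0) :
    Finite (O ⧸ Ideal.span {(p : O)}) ∧ Groth.Agent.Etcore.Herbrand.tor p (Additive Eˣ) ≠ 0 ∧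
      Groth.Agent.Etcore.Herbrand.cok p (Additive Eˣ) =
        p * Nat.card (O ⧸ Ideal.span {(p : O)}) * Groth.Agent.Etcore.Herbrand.tor p (Additive Eˣ) :=
  ⟨LocIndex.finite_quotient O E p hp,
    LocIndex.tor_units_ne_zero p (Fact.out : p.Prime).ne_zero E, LocIndex.cok_field O E p hp⟩

end Groth.Agent.Etbc.H197.C1
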