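import Groth.Agent.Etbc.H197.NormIndex
import Groth.Agent.Etbc.H214.NormGroup

/-!
# The norm group of a Kummer extension of prime degree of a local field has index `ℓ`
-/

set_option autoImplicit false
universe u
open Polynomial
open Groth.Agent.Etbc.H226.NFDefs

namespace Groth.Agent.Etbc.H197

/-- **C4.** For a local field `k` (fraction field of a henselian discrete valuation ring of
characteristic zero with finite residue field) which contains a primitive `ℓ`-th root of unity, and
`b ∈ kˣ` which is not an `ℓ`-th power, the group of norms of `k(b^{1/ℓ})` has index `ℓ`. -/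
theorem C4 (ℓ : ℕ) [Fact ℓ.Prime] (k : Type u) [Field k] (hk : IsLF k)
    (hζ : ∃ ζ : k, IsPrimitiveRoot ζ ℓ) (b : kˣ) (hb : ¬ ∃ c : kˣ, c ^ ℓ = b) :
    (normGroup ℓ (b : k)).index = ℓ := by
  have hℓ : ℓ.Prime := Fact.out
  obtain ⟨h0, R, _, _, _, _, _, _, _⟩ := hk
  obtain ⟨ζ, hζ⟩ := hζ
  have hb' : ∀ c : k, c ^ ℓ ≠ b := by
    intro c hc
    have hc0 : c ≠ 0 := by
      rintro rfl
      rw [zero_pow hℓ.ne_zero] at hc
      exact b.ne_zero hc.symm
    exact hb ⟨Units.mk0 c hc0, Units.ext hc⟩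
  have : Fact (Irreducible (X ^ ℓ - C (b : k) : k[X])) := ⟨H214.NormGroup.irreducible hb'⟩
  have := H214.NormGroup.finite hℓ.ne_zero (b : k)
  have := H214.NormGroup.isGalois hζ hb'
  exact NormIndex.norm_index R k (AdjoinRoot (X ^ ℓ - C (b : k) : k[X])) ℓ
    (H214.NormGroup.finrank_eq hℓ.ne_zero _) (Nat.cast_ne_zero.2 hℓ.ne_zero)

end Groth.Agent.Etbc.H197
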