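import Mathlib.FieldTheory.Galois.Basic
import Mathlib.LinearAlgebra.LinearIndependent.Lemmas
import Mathlib.RingTheory.Norm.Transitivity
import Mathlib.RingTheory.Norm.Basic
import Mathlib.FieldTheory.Fixed
import Mathlib.GroupTheory.SpecificGroups.Cyclic

/-!
# Hilbert 90 for cyclic extensions, in any universe

* `norm_eq_prod_range`: `N x = ∏_{i < n} s ^ i x`, `s` a generator of the Galois group, of order `n`.
* `exists_div_of_norm_eq_one`: Hilbert 90.
-/

set_option autoImplicit false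

namespace Groth.Agent.Etbc.H197.Hilb90

variable {k L : Type*} [Field k] [Field L] [Algebra k L]

theorem exists_div_of_prod_eq_one (s : L ≃ₐ[k] L) (n : ℕ) (hn : 0 < n) (hs : orderOf s = n) {x : L}
    (hx : ∏ i ∈ Finset.range n, (s ^ i) x = 1) : ∃ y : L, y ≠ 0 ∧ x * s y = y := by
  classical
  have hsn : s ^ n = 1 := by rw [← hs, pow_orderOf_eq_one]
  let c : ℕ → L := fun i => ∏ j ∈ Finset.range i, (s ^ j) x
  have hc0 : c 0 = 1 := by simp [c]
  have hcn : c n = 1 := hx
  have hcs : ∀ i, x * s (c i) = c (i + 1) := by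
    intro i
    simp only [c]
    rw [Finset.prod_range_succ', map_prod, mul_comm]
    congr 1
    refine Finset.prod_congr rfl fun j _ => ?_
    rw [pow_succ']
    rfl
  let m : Fin n → (L →* L) := fun i => ((s ^ (i : ℕ) : L ≃ₐ[k] L) : L →* L)
  have hm : Function.Injective m := by
    intro i j hij
    have h1 : s ^ (i : ℕ) = s ^ (j : ℕ) := by
      ext z
      exact DFunLike.congr_fun hij z
    have h2 := (pow_inj_mod).1 h1
    rw [hs, Nat.mod_eq_of_lt i.2, Nat.mod_eq_of_lt j.2] at h2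
    exact Fin.ext h2
  have hlin : LinearIndependent L (fun i : Fin n => ((m i : L →* L) : L → L)) :=
    (linearIndependent_monoidHom L L).comp m hm
  obtain ⟨z, hz⟩ : ∃ z : L, ∑ i : Fin n, c i * (s ^ (i : ℕ)) z ≠ 0 := by
    by_contra hcon
    push Not at hcon
    have := (Fintype.linearIndependent_iff.1 hlin) (fun i => c i) (by
      ext z
      rw [Finset.sum_apply]
      exact hcon z) ⟨0, hn⟩
    change c 0 = 0 at this
    rw [hc0] at this
    exact one_ne_zero this
  refine ⟨_, hz, ?_⟩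
  rw [map_sum, Finset.mul_sum]
  have h1 : ∀ i : Fin n, x * s (c i * (s ^ (i : ℕ)) z) = c ((i : ℕ) + 1) * (s ^ ((i : ℕ) + 1)) z := by
    intro i
    rw [map_mul, ← mul_assoc, hcs, pow_succ']
    rfl
  simp only [h1]
  rw [Fin.sum_univ_eq_sum_range (fun i => c (i + 1) * (s ^ (i + 1)) z) n,
    Fin.sum_univ_eq_sum_range (fun i => c i * (s ^ i) z) n]
  obtain ⟨l, rfl⟩ : ∃ l, n = l + 1 := ⟨n - 1, by omega⟩
  rw [Finset.sum_range_succ, Finset.sum_range_succ', hcn, hc0, hsn, pow_zero]

variable [FiniteDimensional k L] [IsGalois k L]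

theorem norm_eq_prod_range (s : L ≃ₐ[k] L) (hs : ∀ x, x ∈ Subgroup.zpowers s) (x : L) :
    algebraMap k L (Algebra.norm k x) = ∏ i ∈ Finset.range (orderOf s), (s ^ i) x := by
  classical
  rw [Algebra.norm_eq_prod_automorphisms]
  have hfin : IsOfFinOrder s := isOfFinOrder_of_finite s
  rw [← Fin.prod_univ_eq_prod_range (fun i => (s ^ i) x)]
  have hb : Function.Bijective (fun i : Fin (orderOf s) => s ^ (i : ℕ)) := by
    constructor
    · intro i j hij
      have h2 := (pow_inj_mod).1 hij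
      rw [Nat.mod_eq_of_lt i.2, Nat.mod_eq_of_lt j.2] at h2
      exact Fin.ext h2
    · intro f
      obtain ⟨m, hm⟩ := (mem_powers_iff_mem_zpowers (x := s) (y := f)).2 (hs f)
      refine ⟨⟨m % orderOf s, Nat.mod_lt _ hfin.orderOf_pos⟩, ?_⟩
      change s ^ (m % orderOf s) = f
      rw [pow_mod_orderOf]
      exact hm
  exact (Fintype.prod_bijective (fun i : Fin (orderOf s) => s ^ (i : ℕ)) hb
    (fun i : Fin (orderOf s) => (s ^ (i : ℕ)) x) (fun f => f x) (fun _ => rfl)).symm

/-- **Hilbert 90**. -/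
theorem exists_div_of_norm_eq_one (s : L ≃ₐ[k] L) (hs : ∀ x, x ∈ Subgroup.zpowers s) {x : L}
    (hx : Algebra.norm k x = 1) : ∃ y : L, y ≠ 0 ∧ x * s y = y := by
  refine exists_div_of_prod_eq_one s _ (isOfFinOrder_of_finite s).orderOf_pos rfl ?_
  rw [← norm_eq_prod_range s hs, hx, map_one]

end Groth.Agent.Etbc.H197.Hilb90
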