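import Groth.Agent.Etbc.H197.PowHensel
import Groth.Agent.Etcore.Herbrand
import Mathlib.RingTheory.Ideal.Quotient.Index
import Mathlib.RingTheory.LocalRing.Quotient
import Mathlib.RingTheory.RootsOfUnity.PrimitiveRoots

/-!
# The index of the `m`-th powers in a local field

`R` henselian discrete valuation ring with finite residue field, `K` its fraction field, `m ≠ 0`
in `R`: `#(Kˣ / Kˣ ^ m) = m * #μ_m(K) * #(R / m R)`.
-/

set_option autoImplicit false

open IsLocalRing Function LinearMap

namespace Groth.Agent.Etbc.H197.LocIndex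

open Groth.Agent.Etcore.Herbrand

section fin

/-- a finite group has `tor = cok ≠ 0`. -/
theorem tor_eq_cok_of_finite (n : ℕ) (M : Type*) [AddCommGroup M] [Finite M] :
    tor n M = cok n M ∧ tor n M ≠ 0 := by
  have h1 := card_eq_ker_mul_range (mulN n M)
  have h2 : Nat.card M = Nat.card (range (mulN n M)) * Nat.card (M ⧸ range (mulN n M)) := by
    rw [Submodule.card_eq_card_quotient_mul_card (range (mulN n M)), mul_comm]
  have h3 : Nat.card (range (mulN n M)) ≠ 0 := Nat.card_pos.ne'
  refine ⟨?_, Nat.card_pos.ne'⟩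
  have : Nat.card (range (mulN n M)) * tor n M = Nat.card (range (mulN n M)) * cok n M := by
    rw [mul_comm, tor, ← h1, h2, cok]
  exact Nat.eq_of_mul_eq_mul_left (Nat.pos_of_ne_zero h3) this

/-- a subgroup of finite index has the same Herbrand quotient. -/
theorem cok_mul_tor_of_finite_quotient (n : ℕ) {A B : Type*} [AddCommGroup A] [AddCommGroup B]
    (f : A →ₗ[ℤ] B) (hf : Injective f) [Finite (B ⧸ range f)] :
    tor n A * cok n B = tor n B * cok n A := by
  have h := herbrand n f (range f).mkQ hf (Submodule.mkQ_surjective _) (by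
    intro x
    simp)
  obtain ⟨h1, h2⟩ := tor_eq_cok_of_finite n (B ⧸ range f)
  rw [← h1] at h
  have : tor n (B ⧸ range f) * (tor n A * cok n B) = tor n (B ⧸ range f) * (tor n B * cok n A) := by
    calc _ = tor n A * tor n (B ⧸ range f) * cok n B := by ring
      _ = tor n B * cok n A * tor n (B ⧸ range f) := h
      _ = _ := by ring
  exact Nat.eq_of_mul_eq_mul_left (Nat.pos_of_ne_zero h2) this

theorem cok_int (n : ℕ) : cok n ℤ = n := by
  rw [cok_eq_of_surjective n (N := ZMod n) (Int.castAddHom (ZMod n)) (ZMod.intCast_surjective) ?_,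
    Nat.card_zmod]
  intro m
  change ((m : ℤ) : ZMod n) = 0 ↔ _
  rw [ZMod.intCast_zmod_eq_zero_iff_dvd]
  constructor
  · rintro ⟨k, rfl⟩
    exact ⟨k, by simp⟩
  · rintro ⟨k, rfl⟩
    exact ⟨k, by simp⟩

/-- the `n`-torsion of the units of a domain. -/
theorem tor_units_eq (n : ℕ) (A : Type*) [CommRing A] :
    tor n (Additive Aˣ) = Nat.card (rootsOfUnity n A) := by
  rw [tor_eq]
  refine Nat.card_congr (Equiv.subtypeEquiv Additive.toMul fun u => ?_)
  rw [mem_rootsOfUnity]
  exact Iff.rfl

theorem tor_units_ne_zero (n : ℕ) (hn : n ≠ 0) (A : Type*) [CommRing A] [IsDomain A] :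
    tor n (Additive Aˣ) ≠ 0 := by
  have : NeZero n := ⟨hn⟩
  rw [tor_units_eq]
  exact Nat.card_pos.ne'

theorem tor_units_of_primitive (n : ℕ) (hn : n ≠ 0) (A : Type*) [CommRing A] [IsDomain A]
    (h : ∃ ζ : A, IsPrimitiveRoot ζ n) : tor n (Additive Aˣ) = n := by
  have : NeZero n := ⟨hn⟩
  obtain ⟨ζ, hζ⟩ := h
  rw [tor_units_eq, hζ.card_rootsOfUnity]

theorem tor_int (n : ℕ) (hn : n ≠ 0) : tor n ℤ = 1 := by
  refine tor_eq_one n ℤ fun m h => ?_
  simpa [hn] using h

end fin

section units

variable {R : Type*} [CommRing R] [IsDomain R]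

/-- The units congruent to `1` modulo `x`. -/
def unitsCongr (R : Type*) [CommRing R] (x : R) : Subgroup Rˣ :=
  (Units.map (Ideal.Quotient.mk (Ideal.span {x}) : R →* R ⧸ Ideal.span {x})).ker

theorem mem_unitsCongr {R : Type*} [CommRing R] {x : R} {u : Rˣ} :
    u ∈ unitsCongr R x ↔ ∃ t, (u : R) = 1 + x * t := by
  rw [unitsCongr, MonoidHom.mem_ker, Units.ext_iff]
  change Ideal.Quotient.mk _ (u : R) = 1 ↔ _
  rw [← map_one (Ideal.Quotient.mk (Ideal.span {x})), Ideal.Quotient.eq, Ideal.mem_span_singleton]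
  constructor
  · rintro ⟨t, ht⟩
    exact ⟨t, by linear_combination ht⟩
  · rintro ⟨t, ht⟩
    exact ⟨t, by linear_combination ht⟩

variable (m : ℕ) (π : R)

/-- the class of `(u - 1) / (m π)` modulo `m`. -/
theorem exists_hom (hπ0 : π ≠ 0) (hm : (m : R) ≠ 0) :
    ∃ φ : Additive (unitsCongr R (m * π)) →+ R ⧸ Ideal.span {(m : R)},
      ∀ (u : unitsCongr R (m * π)) (t : R), ((u : Rˣ) : R) = 1 + m * π * t →
        φ (Additive.ofMul u) = Ideal.Quotient.mk _ t := by
  have hx : (m : R) * π ≠ 0 := mul_ne_zero hm hπ0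
  have h := fun u : unitsCongr R (m * π) => mem_unitsCongr.1 u.2
  choose τ hτ using h
  have huniq : ∀ (u : unitsCongr R (m * π)) (t : R), ((u : Rˣ) : R) = 1 + m * π * t → τ u = t := by
    intro u t ht
    have : (m : R) * π * τ u = m * π * t := by linear_combination - hτ u + ht
    exact mul_left_cancel₀ hx this
  refine ⟨{ toFun := fun u => Ideal.Quotient.mk _ (τ u.toMul), map_zero' := ?_, map_add' := ?_ }, ?_⟩
  · have : τ 1 = 0 := huniq 1 0 (by simp)
    change Ideal.Quotient.mk _ (τ 1) = 0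
    rw [this, map_zero]
  · intro u v
    have : τ (u.toMul * v.toMul) = τ u.toMul + τ v.toMul + m * (π * τ u.toMul * τ v.toMul) := by
      apply huniq
      change ((u.toMul : Rˣ) : R) * ((v.toMul : Rˣ) : R) = _
      rw [hτ, hτ]
      ring
    change Ideal.Quotient.mk _ (τ (u.toMul * v.toMul)) = _
    rw [this, map_add, map_add, map_mul]
    have h0 : Ideal.Quotient.mk (Ideal.span {(m : R)}) (m : R) = 0 := by
      rw [Ideal.Quotient.eq_zero_iff_mem]
      exact Ideal.mem_span_singleton_self _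
    rw [h0, zero_mul, add_zero]
  · intro u t ht
    change Ideal.Quotient.mk _ (τ u) = _
    rw [huniq u t ht]

variable [HenselianLocalRing R]

theorem cok_unitsCongr (hπ : π ∈ maximalIdeal R) (hπ0 : π ≠ 0) (hm : (m : R) ≠ 0) :
    cok m (Additive (unitsCongr R (m * π))) = Nat.card (R ⧸ Ideal.span {(m : R)}) := by
  obtain ⟨φ, hφ⟩ := exists_hom m π hπ0 hm
  have hmk : ∀ t : R, ∃ u : unitsCongr R (m * π), ((u : Rˣ) : R) = 1 + m * π * t := by
    intro t
    have hu : IsUnit (1 + m * π * t) := by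
      by_contra hcon
      have h3 := (mem_maximalIdeal _).2 hcon
      have h5 : m * π * t ∈ maximalIdeal R := Ideal.mul_mem_right _ _ (Ideal.mul_mem_left _ _ hπ)
      have h4 : (1 : R) ∈ maximalIdeal R := by
        have := Ideal.sub_mem _ h3 h5
        rwa [add_sub_cancel_right] at this
      exact (Ideal.ne_top_iff_one _).1 (maximalIdeal.isMaximal R).ne_top h4
    obtain ⟨u, hu⟩ := hu
    exact ⟨⟨u, mem_unitsCongr.2 ⟨t, hu⟩⟩, hu⟩
  refine cok_eq_of_surjective m φ ?_ ?_
  · intro y
    obtain ⟨t, rfl⟩ := Ideal.Quotient.mk_surjective y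
    obtain ⟨u, hu⟩ := hmk t
    exact ⟨Additive.ofMul u, hφ u t hu⟩
  · intro u
    obtain ⟨u, rfl⟩ := Additive.ofMul.surjective u
    obtain ⟨t, ht⟩ := mem_unitsCongr.1 u.2
    rw [hφ u t ht, Ideal.Quotient.eq_zero_iff_mem, Ideal.mem_span_singleton]
    constructor
    · rintro ⟨w, rfl⟩
      obtain ⟨s, hs, -⟩ := PowHensel.exists_pow_eq m hπ w
      obtain ⟨v, hv⟩ := hmk s
      refine ⟨Additive.ofMul v, ?_⟩
      rw [← ofMul_pow]
      congr 1
      apply Subtype.ext
      apply Units.ext
      change (((v : Rˣ) : R)) ^ m = _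
      rw [hv, hs, ht]
      ring
    · rintro ⟨v, hv⟩
      obtain ⟨v, rfl⟩ := Additive.ofMul.surjective v
      obtain ⟨s, hs⟩ := mem_unitsCongr.1 v.2
      rw [← ofMul_pow] at hv
      have hv' := Additive.ofMul.injective hv
      have h1 : (((v : Rˣ) : R)) ^ m = ((u : Rˣ) : R) := by
        rw [← hv']
        rfl
      obtain ⟨r, hr⟩ := PowHensel.one_add_pow m π s
      rw [hs, hr, ht] at h1
      have hx : (m : R) * π ≠ 0 := mul_ne_zero hm hπ0
      refine ⟨s + π * s ^ 2 * r, ?_⟩
      have h2 : (m : R) * π * t = m * π * (m * (s + π * s ^ 2 * r)) := by linear_combination - h1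
      exact mul_left_cancel₀ hx h2

theorem tor_unitsCongr (hπ : π ∈ maximalIdeal R) (hπ0 : π ≠ 0) (hm : (m : R) ≠ 0) :
    tor m (Additive (unitsCongr R (m * π))) = 1 := by
  refine tor_eq_one m _ fun u hu => ?_
  obtain ⟨u, rfl⟩ := Additive.ofMul.surjective u
  obtain ⟨t, ht⟩ := mem_unitsCongr.1 u.2
  rw [← ofMul_pow, ← ofMul_one] at hu
  have hu' := Additive.ofMul.injective hu
  have h1 : (((u : Rˣ) : R)) ^ m = 1 := by
    have := congrArg (fun z : unitsCongr R (m * π) => ((z : Rˣ) : R)) hu'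
    simpa using this
  rw [ht] at h1
  have h2 := PowHensel.eq_zero_of_pow_eq_one m hπ hπ0 hm h1
  rw [← ofMul_one]
  congr 1
  apply Subtype.ext
  apply Units.ext
  rw [ht, h2]
  simp

omit [HenselianLocalRing R] in
theorem finite_quotient_span [IsDiscreteValuationRing R] {x : R} (hx : x ≠ 0) [Finite (ResidueField R)] :
    Finite (R ⧸ Ideal.span {x}) := by
  obtain ⟨ϖ, hϖ⟩ := IsDiscreteValuationRing.exists_irreducible R
  have h0 : Ideal.span {x} ≠ ⊥ := by
    rwa [Ne, Ideal.span_singleton_eq_bot]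
  obtain ⟨n, hn⟩ := IsDiscreteValuationRing.ideal_eq_span_pow_irreducible h0 hϖ
  have h1 : Ideal.span {x} = maximalIdeal R ^ n := by
    rw [hn, hϖ.maximalIdeal_eq, Ideal.span_singleton_pow]
  have : Finite (R ⧸ maximalIdeal R) := inferInstanceAs (Finite (ResidueField R))
  rw [h1]
  exact Ideal.finite_quotient_pow (IsNoetherian.noetherian _) n

theorem cok_units [IsDiscreteValuationRing R] [Finite (ResidueField R)] (hm : (m : R) ≠ 0) :
    cok m (Additive Rˣ) = tor m (Additive Rˣ) * Nat.card (R ⧸ Ideal.span {(m : R)}) := by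
  obtain ⟨ϖ, hϖ⟩ := IsDiscreteValuationRing.exists_irreducible R
  have hϖm : ϖ ∈ maximalIdeal R := by
    rw [hϖ.maximalIdeal_eq]
    exact Ideal.mem_span_singleton_self _
  have hx : (m : R) * ϖ ≠ 0 := mul_ne_zero hm hϖ.ne_zero
  have hfin := finite_quotient_span hx
  let f : Additive (unitsCongr R (m * ϖ)) →ₗ[ℤ] Additive Rˣ :=
    (MonoidHom.toAdditive (unitsCongr R (m * ϖ)).subtype).toIntLinearMap
  have hf : Injective f := fun a b hab => Subtype.val_injective hab
  have hfinq : Finite (Additive Rˣ ⧸ range f) := by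
    -- embeds into the units of the finite quotient
    let g : Additive Rˣ →ₗ[ℤ] Additive (R ⧸ Ideal.span {(m : R) * ϖ})ˣ :=
      (MonoidHom.toAdditive (Units.map (Ideal.Quotient.mk (Ideal.span {(m : R) * ϖ}) :
        R →* R ⧸ Ideal.span {(m : R) * ϖ}))).toIntLinearMap
    have hker : ker g = range f := by
      ext u
      obtain ⟨u, rfl⟩ := Additive.ofMul.surjective u
      rw [mem_ker, mem_range]
      constructor
      · intro hu
        exact ⟨Additive.ofMul ⟨u, hu⟩, rfl⟩
      · rintro ⟨v, hv⟩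
        obtain ⟨v, rfl⟩ := Additive.ofMul.surjective v
        have : (v : Rˣ) = u := hv
        subst this
        exact v.2
    rw [← hker]
    have : Finite (Additive (R ⧸ Ideal.span {(m : R) * ϖ})ˣ) :=
      inferInstanceAs (Finite (R ⧸ Ideal.span {(m : R) * ϖ})ˣ)
    exact Finite.of_injective _ g.quotKerEquivRange.injective
  have h := cok_mul_tor_of_finite_quotient m f hf
  rw [tor_unitsCongr m ϖ hϖm hϖ.ne_zero hm, cok_unitsCongr m ϖ hϖm hϖ.ne_zero hm, one_mul] at h
  exact h

end units

section field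

variable (R K : Type*) [CommRing R] [IsDomain R] [IsDiscreteValuationRing R]
  [Field K] [Algebra R K] [IsFractionRing R K]

/-- The decomposition `Kˣ = π ^ ℤ × Rˣ`. -/
theorem exists_equiv {ϖ : R} (hϖ : Irreducible ϖ) :
    ∃ e : Multiplicative ℤ × Rˣ ≃* Kˣ, ∀ (n : ℤ) (u : Rˣ),
      ((e (Multiplicative.ofAdd n, u) : Kˣ) : K) = algebraMap R K ϖ ^ n * algebraMap R K u := by
  have hϖ0 : algebraMap R K ϖ ≠ 0 := by
    simpa using hϖ.ne_zero
  let p : Kˣ := Units.mk0 _ hϖ0
  let f : Multiplicative ℤ × Rˣ →* Kˣ :=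
    (zpowersHom Kˣ p).coprod (Units.map (algebraMap R K : R →* K))
  have hfv : ∀ (n : ℤ) (u : Rˣ), ((f (Multiplicative.ofAdd n, u) : Kˣ) : K) =
      algebraMap R K ϖ ^ n * algebraMap R K u := by
    intro n u
    simp [f, p]
  have hnat : ∀ (n : ℕ) (u v : Rˣ), algebraMap R K ϖ ^ n * algebraMap R K u = algebraMap R K v → n = 0 := by
    intro n u v h
    by_contra hn
    have h1 : ϖ ^ n * u = v := by
      apply IsFractionRing.injective R K
      rw [map_mul, map_pow]
      exact h
    have h2 : IsUnit (ϖ ^ n) := by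
      have h3 : ϖ ^ n = ((v * u⁻¹ : Rˣ) : R) := by
        rw [Units.val_mul, ← h1, mul_assoc, Units.mul_inv, mul_one]
      rw [h3]
      exact Units.isUnit _
    exact hϖ.not_isUnit ((isUnit_pow_iff hn).1 h2)
  have hinj : Injective f := by
    rw [injective_iff_map_eq_one]
    rintro ⟨n, u⟩ h
    obtain ⟨n, rfl⟩ := Multiplicative.ofAdd.surjective n
    have h1 : algebraMap R K ϖ ^ n * algebraMap R K u = 1 := by
      rw [← hfv, h, Units.val_one]
    have hn : n = 0 := by
      obtain ⟨k, rfl | rfl⟩ := n.eq_nat_or_neg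
      · have := hnat k u 1 (by rw [zpow_natCast] at h1; rw [h1]; simp)
        rw [this]; rfl
      · have h2 : algebraMap R K ϖ ^ k * algebraMap R K (1 : Rˣ) = algebraMap R K u := by
          rw [zpow_neg, zpow_natCast] at h1
          rw [Units.val_one, map_one, mul_one]
          have h3 : algebraMap R K ϖ ^ k ≠ 0 := pow_ne_zero _ hϖ0
          field_simp at h1
          exact h1.symm
        have := hnat k 1 u h2
        rw [this]; rfl
    subst hn
    rw [zpow_zero, one_mul] at h1
    have hu : u = 1 := by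
      apply Units.ext
      apply IsFractionRing.injective R K
      rw [h1, Units.val_one, map_one]
    rw [hu]; rfl
  have hsurj : Surjective f := by
    intro x
    obtain ⟨n, u, h⟩ := IsDiscreteValuationRing.exists_units_eq_smul_zpow_of_irreducible (K := K) hϖ x.ne_zero
    refine ⟨(Multiplicative.ofAdd n, u), Units.ext ?_⟩
    rw [hfv, h, Units.smul_def, Algebra.smul_def, mul_comm]
  exact ⟨MulEquiv.ofBijective f ⟨hinj, hsurj⟩, hfv⟩

variable [HenselianLocalRing R] [Finite (ResidueField R)] (m : ℕ)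

/-- **Index of the `m`-th powers** in the multiplicative group of a local field. -/
theorem cok_field (hm : (m : K) ≠ 0) :
    cok m (Additive Kˣ) = m * Nat.card (R ⧸ Ideal.span {(m : R)}) * tor m (Additive Kˣ) := by
  have hm' : (m : R) ≠ 0 := by
    intro h
    apply hm
    rw [← map_natCast (algebraMap R K), h, map_zero]
  have hm0 : m ≠ 0 := by
    rintro rfl
    simp at hm
  obtain ⟨ϖ, hϖ⟩ := IsDiscreteValuationRing.exists_irreducible R
  obtain ⟨e, -⟩ := exists_equiv R K hϖ
  have e' : ℤ × Additive Rˣ ≃+ Additive Kˣ :=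
    { toFun := fun x => Additive.ofMul (e (Multiplicative.ofAdd x.1, x.2.toMul))
      invFun := fun x => ((e.symm x.toMul).1.toAdd, Additive.ofMul (e.symm x.toMul).2)
      left_inv := fun x => by simp
      right_inv := fun x => by simp
      map_add' := fun x y => by
        rw [← ofMul_mul, ← map_mul]
        rfl }
  have h := herbrand m (LinearMap.inr ℤ ℤ (Additive Rˣ)) (LinearMap.fst ℤ ℤ (Additive Rˣ))
    LinearMap.inr_injective LinearMap.fst_surjective (by
      rw [LinearMap.exact_iff, LinearMap.range_inr])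
  rw [tor_int m hm0, cok_int, cok_units m hm', tor_congr m e', cok_congr m e'] at h
  have ht : tor m (Additive Rˣ) ≠ 0 := tor_units_ne_zero m hm0 R
  refine Nat.eq_of_mul_eq_mul_left (Nat.pos_of_ne_zero ht) ?_
  rw [mul_one] at h
  rw [h]
  ring

omit [IsFractionRing R K] [HenselianLocalRing R] in
theorem finite_quotient (hm : (m : K) ≠ 0) : Finite (R ⧸ Ideal.span {(m : R)}) := by
  refine finite_quotient_span (x := (m : R)) ?_
  intro h
  apply hm
  rw [← map_natCast (algebraMap R K), h, map_zero]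

/-- The form with a primitive root of unity. -/
theorem cok_field_of_primitive (hm : (m : K) ≠ 0) (h : ∃ ζ : K, IsPrimitiveRoot ζ m) :
    cok m (Additive Kˣ) = m ^ 2 * Nat.card (R ⧸ Ideal.span {(m : R)}) := by
  have hm0 : m ≠ 0 := by
    rintro rfl
    simp at hm
  rw [cok_field R K m hm, tor_units_of_primitive m hm0 K h]
  ring

end field

end Groth.Agent.Etbc.H197.LocIndex
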