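import Groth.Agent.Etbc.H197.C1
import Groth.Agent.Etbc.H162.HerbP
import Groth.Agent.Etbc.H205.HensExt
import Groth.Agent.Etbc.H197.Hilb90
import Mathlib.RingTheory.Norm.Basic
import Mathlib.LinearAlgebra.FreeModule.PID

/-!
# The norm index of a cyclic extension of prime degree of local fields

`R` henselian discrete valuation ring with finite residue field, `k` its fraction field, of
characteristic zero, `L/k` Galois of prime degree `ℓ`: `(kˣ : N Lˣ) = ℓ`.
-/

set_option autoImplicit false

universe u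

open IsLocalRing Function

namespace Groth.Agent.Etbc.H197.NormIndex

open Groth.Agent.Etcore.Herbrand

/-- Galois extensions of prime degree: the Herbrand count with Hilbert 90. -/
theorem herbrand_count (k L : Type u) [Field k] [Field L] [Algebra k L] [FiniteDimensional k L]
    [IsGalois k L] (ℓ : ℕ) [Fact ℓ.Prime] (hdeg : Module.finrank k L = ℓ)
    (ht : tor ℓ (Additive Lˣ) ≠ 0) (hc : cok ℓ (Additive Lˣ) ≠ 0) :
    (Units.map (Algebra.norm k : L →* k)).range.index ^ (ℓ - 1) * cok ℓ (Additive Lˣ) *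
      (tor ℓ (Additive kˣ)) ^ ℓ = tor ℓ (Additive Lˣ) * (cok ℓ (Additive kˣ)) ^ ℓ ∧
    (Units.map (Algebra.norm k : L →* k)).range.index ≠ 0 := by
  classical
  have hcard : Nat.card (L ≃ₐ[k] L) = ℓ := by rw [IsGalois.card_aut_eq_finrank, hdeg]
  have hcyc : IsCyclic (L ≃ₐ[k] L) := isCyclic_of_prime_card hcard
  obtain ⟨s, hs⟩ := hcyc.exists_generator
  have hord : orderOf s = ℓ := by rw [orderOf_eq_card_of_forall_mem_zpowers hs, hcard]
  let σ : AddMonoid.End (Additive Lˣ) := MonoidHom.toAdditive (Units.map (s : L →* L))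
  have hσ : ∀ x : Lˣ, σ (Additive.ofMul x) = Additive.ofMul (Units.map (s : L →* L) x) := fun _ => rfl
  have hσn : ∀ (n : ℕ) (x : Additive Lˣ), ((((σ ^ n) x).toMul : Lˣ) : L) = (s ^ n) ((x.toMul : Lˣ) : L) := by
    intro n
    induction n with
    | zero => intro x; rfl
    | succ n ih =>
      intro x
      rw [pow_succ, pow_succ]
      change ((((σ ^ n) (σ x)).toMul : Lˣ) : L) = (s ^ n) (s ((x.toMul : Lˣ) : L))
      rw [ih]
      rfl
  have hσℓ : σ ^ ℓ = 1 := by
    ext x
    have := hσn ℓ x
    rw [← hord, pow_orderOf_eq_one] at this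
    rw [← hord]
    exact this
  obtain ⟨h1, h2, h3, h4, h5⟩ := Groth.Agent.Etbc.H162.HerbP.herb_prime ℓ σ hσℓ ht hc
  -- the fixed points
  have hfix : ∀ x : L, s x = x → ∃ y : k, algebraMap k L y = x := by
    intro x hx
    have : x ∈ (⊥ : IntermediateField k L) := by
      rw [IsGalois.mem_bot_iff_fixed]
      intro f
      obtain ⟨n, rfl⟩ := Subgroup.mem_zpowers_iff.1 (hs f)
      have hst : ∀ m : ℕ, (s ^ m) x = x := by
        intro m
        induction m with
        | zero => rfl
        | succ m ih => rw [pow_succ]; change (s ^ m) (s x) = x; rw [hx, ih]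
      obtain ⟨m, hm⟩ : ∃ m : ℕ, s ^ n = s ^ m := by
        have := (mem_powers_iff_mem_zpowers (x := s) (y := s ^ n)).2 (Subgroup.zpow_mem_zpowers _ _)
        obtain ⟨m, hm⟩ := this
        exact ⟨m, hm.symm⟩
      rw [hm, hst]
    exact this
  let ι : kˣ →* Lˣ := Units.map (algebraMap k L : k →* L)
  have hι : Injective ι := Units.map_injective (algebraMap k L).injective
  have hker : ∀ x : Additive Lˣ, x ∈ AddMonoidHom.ker (σ - 1) ↔ ∃ y : kˣ, ι y = x.toMul := by
    intro x
    rw [AddMonoidHom.mem_ker]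
    change σ x - x = 0 ↔ _
    rw [sub_eq_zero]
    constructor
    · intro h
      have h' : s ((x.toMul : Lˣ) : L) = ((x.toMul : Lˣ) : L) := by
        have := congrArg (fun z : Additive Lˣ => ((z.toMul : Lˣ) : L)) h
        exact this
      obtain ⟨y, hy⟩ := hfix _ h'
      have hy0 : y ≠ 0 := by
        rintro rfl
        rw [map_zero] at hy
        exact x.toMul.ne_zero hy.symm
      exact ⟨Units.mk0 y hy0, Units.ext hy⟩
    · rintro ⟨y, hy⟩
      have : (((σ x).toMul : Lˣ) : L) = ((x.toMul : Lˣ) : L) := by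
        change s ((x.toMul : Lˣ) : L) = _
        rw [← hy]
        exact s.commutes _
      exact Additive.toMul.injective (Units.ext this)
  let e : Additive kˣ ≃+ AddMonoidHom.ker (σ - 1) := AddEquiv.ofBijective
    ({ toFun := fun y => ⟨Additive.ofMul (ι y.toMul), (hker _).2 ⟨y.toMul, rfl⟩⟩
       map_zero' := Subtype.ext (by simp)
       map_add' := fun a b => Subtype.ext (by simp) } : Additive kˣ →+ AddMonoidHom.ker (σ - 1))
    ⟨fun a b hab => by
        have := congrArg Subtype.val hab
        exact hι this, fun x => by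
        obtain ⟨y, hy⟩ := (hker x.1).1 x.2
        exact ⟨Additive.ofMul y, Subtype.ext (Additive.toMul.injective hy)⟩⟩
  rw [← tor_congr ℓ e, ← cok_congr ℓ e] at h1
  -- the norm
  have hN : ∀ x : Additive Lˣ, ((((∑ i ∈ Finset.range ℓ, σ ^ i : AddMonoid.End (Additive Lˣ)) x).toMul : Lˣ) : L)
      = algebraMap k L (Algebra.norm k ((x.toMul : Lˣ) : L)) := by
    intro x
    rw [Hilb90.norm_eq_prod_range s hs, Groth.Agent.Etbc.H162.HerbP.sum_apply]
    rw [toMul_sum, Units.coe_prod, hord]
    simp only [hσn]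
  have hrange : ∀ x : Additive Lˣ, x ∈ AddMonoidHom.range (∑ i ∈ Finset.range ℓ, σ ^ i : AddMonoid.End (Additive Lˣ)) ↔
      ∃ y ∈ (Units.map (Algebra.norm k : L →* k)).range, ι y = x.toMul := by
    intro x
    constructor
    · rintro ⟨z, rfl⟩
      exact ⟨Units.map (Algebra.norm k : L →* k) z.toMul, ⟨_, rfl⟩, Units.ext (hN z).symm⟩
    · rintro ⟨y, ⟨z, rfl⟩, hy⟩
      refine ⟨Additive.ofMul z, ?_⟩
      have : (((∑ i ∈ Finset.range ℓ, σ ^ i : AddMonoid.End (Additive Lˣ)) (Additive.ofMul z)).toMul : Lˣ) = x.toMul := by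
        rw [← hy]
        exact Units.ext (hN _)
      exact Additive.toMul.injective this
  have hidx : (AddMonoidHom.range (∑ i ∈ Finset.range ℓ, σ ^ i : AddMonoid.End (Additive Lˣ))).relIndex (AddMonoidHom.ker (σ - 1))
      = (Units.map (Algebra.norm k : L →* k)).range.index := by
    rw [AddSubgroup.relIndex, ← AddSubgroup.index_comap_of_surjective
      (f := (e : Additive kˣ →+ AddMonoidHom.ker (σ - 1))) _ e.surjective]
    have : AddSubgroup.comap (e : Additive kˣ →+ AddMonoidHom.ker (σ - 1))
        ((AddMonoidHom.range (∑ i ∈ Finset.range ℓ, σ ^ i : AddMonoid.End (Additive Lˣ))).addSubgroupOf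
          (AddMonoidHom.ker (σ - 1))) = Subgroup.toAddSubgroup (Units.map (Algebra.norm k : L →* k)).range := by
      ext y
      rw [AddSubgroup.mem_comap, AddSubgroup.mem_addSubgroupOf, hrange]
      constructor
      · rintro ⟨z, hz, hzy⟩
        have : z = y.toMul := hι hzy
        rw [this] at hz
        exact hz
      · intro hy
        exact ⟨y.toMul, hy, rfl⟩
    rw [this, Subgroup.index_toAddSubgroup]
  -- Hilbert 90
  have h90 : (AddMonoidHom.range (σ - 1)).relIndex (AddMonoidHom.ker (∑ i ∈ Finset.range ℓ, σ ^ i : AddMonoid.End (Additive Lˣ))) = 1 := by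
    rw [AddSubgroup.relIndex_eq_one]
    intro x hx
    rw [AddMonoidHom.mem_ker] at hx
    have hn : Algebra.norm k ((x.toMul : Lˣ) : L) = 1 := by
      apply (algebraMap k L).injective
      have h := hN x
      change (∑ i ∈ Finset.range ℓ, σ ^ i : AddMonoid.End (Additive Lˣ)) x = 0 at hx
      rw [hx] at h
      rw [← h, map_one]
      rfl
    obtain ⟨y, hy0, hy⟩ := Hilb90.exists_div_of_norm_eq_one s hs hn
    refine ⟨- Additive.ofMul (Units.mk0 y hy0), ?_⟩
    change σ (- Additive.ofMul (Units.mk0 y hy0)) - (- Additive.ofMul (Units.mk0 y hy0)) = x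
    rw [map_neg, neg_sub_neg, hσ]
    apply Additive.toMul.injective
    apply Units.ext
    rw [toMul_sub, Units.val_div_eq_div_val]
    change y / s y = _
    have hsy : s y ≠ 0 := by simpa using hy0
    rw [div_eq_iff hsy]
    exact hy.symm
  rw [hidx, h90, one_pow, one_mul] at h1
  rw [hidx] at h2
  exact ⟨h1, h2⟩

/-- multiplication of the residue ring `S / m S` for `S` finite free over the discrete valuation
ring `R`. -/
theorem card_quotient (R S : Type u) [CommRing R] [IsDomain R] [IsDiscreteValuationRing R]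
    [CommRing S] [Algebra R S] [Module.Finite R S] [Module.Free R S] (m : R) :
    Nat.card (S ⧸ Ideal.span {algebraMap R S m}) = Nat.card (R ⧸ Ideal.span {m}) ^ Module.finrank R S := by
  let b := Module.finBasis R S
  let f : S →ₗ[R] (Fin (Module.finrank R S) → R ⧸ Ideal.span {m}) :=
    LinearMap.pi fun i => (Ideal.span {m}).mkQ.comp (b.coord i)
  have hf : ∀ x i, f x i = Ideal.Quotient.mk _ (b.repr x i) := fun _ _ => rfl
  have hsurj : Surjective f := by
    intro y
    have h := fun i => Ideal.Quotient.mk_surjective (y i)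
    choose z hz using h
    refine ⟨∑ i, z i • b i, funext fun i => ?_⟩
    rw [hf, b.repr_sum_self, hz]
  have hker : LinearMap.ker f = (Ideal.span {algebraMap R S m}).restrictScalars R := by
    ext x
    rw [LinearMap.mem_ker, Submodule.restrictScalars_mem, Ideal.mem_span_singleton]
    constructor
    · intro hx
      have h : ∀ i, ∃ c, b.repr x i = m * c := by
        intro i
        have := congrFun hx i
        rw [hf] at this
        exact Ideal.mem_span_singleton.1 (Ideal.Quotient.eq_zero_iff_mem.1 this)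
      choose c hc using h
      refine ⟨∑ i, c i • b i, ?_⟩
      rw [← b.sum_repr x, Finset.mul_sum]
      refine Finset.sum_congr rfl fun i _ => ?_
      rw [hc, mul_smul, Algebra.smul_def]
    · rintro ⟨y, rfl⟩
      funext i
      rw [hf, ← Algebra.smul_def, map_smul]
      change Ideal.Quotient.mk _ (m * _) = 0
      rw [Ideal.Quotient.eq_zero_iff_mem]
      exact Ideal.mul_mem_right _ _ (Ideal.mem_span_singleton_self _)
  have e1 : (S ⧸ (Ideal.span {algebraMap R S m}).restrictScalars R) ≃ₗ[R]
      (S ⧸ Ideal.span {algebraMap R S m}) := Submodule.Quotient.restrictScalarsEquiv R _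
  have e2 : (S ⧸ LinearMap.ker f) ≃ₗ[R] (S ⧸ (Ideal.span {algebraMap R S m}).restrictScalars R) :=
    Submodule.quotEquivOfEq _ _ hker
  rw [← Nat.card_congr e1.toEquiv, ← Nat.card_congr e2.toEquiv,
    Nat.card_congr (f.quotKerEquivOfSurjective hsurj).toEquiv, Nat.card_fun]
  simp

section local_field

variable (R k L : Type u) [CommRing R] [IsDomain R] [IsDiscreteValuationRing R]
  [HenselianLocalRing R] [Finite (ResidueField R)] [Field k] [Algebra R k] [IsFractionRing R k]
  [Field L] [Algebra k L] [FiniteDimensional k L] [Algebra R L] [IsScalarTower R k L]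
  [Algebra.IsSeparable k L]

/-- the count for the extension field. -/
theorem cok_extension (m : ℕ) (hm : (m : k) ≠ 0) :
    cok m (Additive Lˣ) = m * Nat.card (R ⧸ Ideal.span {(m : R)}) ^ Module.finrank k L *
      tor m (Additive Lˣ) := by
  obtain ⟨h1, h2, h3, h4, h5, h6⟩ := Groth.Agent.Etbc.H205.HensExt.exists_integralClosure R k L
  have h7 : Finite (ResidueField (integralClosure R L)) := Module.finite_of_finite (ResidueField R)
  have hmL : (m : L) ≠ 0 := by
    rw [← map_natCast (algebraMap k L)]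
    exact (map_ne_zero _).2 hm
  rw [LocIndex.cok_field (integralClosure R L) L m hmL]
  congr 2
  have h : Injective (algebraMap R L) := by
    rw [IsScalarTower.algebraMap_eq R k L]
    exact (algebraMap k L).injective.comp (IsFractionRing.injective R k)
  have : Module.IsTorsionFree R L := by
    rw [Module.isTorsionFree_iff_algebraMap_injective]
    exact h
  have hinj : Injective (algebraMap R (integralClosure R L)) := by
    intro a b hab
    apply h
    have := congrArg (algebraMap (integralClosure R L) L) hab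
    rwa [← IsScalarTower.algebraMap_apply, ← IsScalarTower.algebraMap_apply] at this
  have : Module.IsTorsionFree R (integralClosure R L) := by
    rw [Module.isTorsionFree_iff_algebraMap_injective]
    exact hinj
  have : Module.Free R (integralClosure R L) := Module.free_of_finite_type_torsion_free'
  have h8 := card_quotient R (integralClosure R L) (m : R)
  rw [map_natCast] at h8
  rw [h8]
  congr 1
  exact IsIntegralClosure.rank R k L (integralClosure R L)

variable [IsGalois k L] (ℓ : ℕ) [Fact ℓ.Prime] (hdeg : Module.finrank k L = ℓ)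

include R hdeg in
/-- **Norm index** of a Galois extension of prime degree of local fields. -/
theorem norm_index (hm : (ℓ : k) ≠ 0) :
    (Units.map (Algebra.norm k : L →* k)).range.index = ℓ := by
  have hℓ : ℓ.Prime := Fact.out
  have hL := cok_extension R k L ℓ hm
  have hk := LocIndex.cok_field R k ℓ hm
  have tL := LocIndex.tor_units_ne_zero ℓ hℓ.ne_zero L
  have tk := LocIndex.tor_units_ne_zero ℓ hℓ.ne_zero k
  have hfin := LocIndex.finite_quotient R k ℓ hm
  have hc : Nat.card (R ⧸ Ideal.span {(ℓ : R)}) ≠ 0 := Nat.card_pos.ne'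
  set c := Nat.card (R ⧸ Ideal.span {(ℓ : R)})
  have hcL : cok ℓ (Additive Lˣ) ≠ 0 := by
    rw [hL]
    exact mul_ne_zero (mul_ne_zero hℓ.ne_zero (pow_ne_zero _ hc)) tL
  obtain ⟨h1, h2⟩ := herbrand_count k L ℓ hdeg tL hcL
  rw [hL, hk, hdeg] at h1
  set h := (Units.map (Algebra.norm k : L →* k)).range.index
  have h3 : (c ^ ℓ * tor ℓ (Additive Lˣ) * tor ℓ (Additive kˣ) ^ ℓ * ℓ) * h ^ (ℓ - 1) =
      (c ^ ℓ * tor ℓ (Additive Lˣ) * tor ℓ (Additive kˣ) ^ ℓ * ℓ) * ℓ ^ (ℓ - 1) := by
    have e : ℓ ^ (ℓ - 1) * ℓ = ℓ ^ ℓ := by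
      rw [← pow_succ, Nat.sub_add_cancel hℓ.one_le]
    calc _ = h ^ (ℓ - 1) * (ℓ * c ^ ℓ * tor ℓ (Additive Lˣ)) * tor ℓ (Additive kˣ) ^ ℓ := by ring
      _ = tor ℓ (Additive Lˣ) * (ℓ * c * tor ℓ (Additive kˣ)) ^ ℓ := h1
      _ = c ^ ℓ * tor ℓ (Additive Lˣ) * tor ℓ (Additive kˣ) ^ ℓ * ℓ ^ ℓ := by ring
      _ = _ := by rw [← e]; ring
  have h4 := Nat.eq_of_mul_eq_mul_left (Nat.pos_of_ne_zero
    (mul_ne_zero (mul_ne_zero (mul_ne_zero (pow_ne_zero _ hc) tL) (pow_ne_zero _ tk)) hℓ.ne_zero)) h3
  exact Nat.pow_left_injective (Nat.sub_ne_zero_of_lt hℓ.one_lt) h4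

end local_field

end Groth.Agent.Etbc.H197.NormIndex
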