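import Mathlib.RingTheory.Henselian
import Mathlib.RingTheory.DiscreteValuationRing.Basic
import Mathlib.Algebra.Polynomial.Taylor
import Mathlib.Tactic.IntervalCases
import Mathlib.Tactic.LinearCombination

/-!
# Powers in henselian local rings

* `exists_root`: Hensel's lemma for not necessarily monic polynomials.
* `exists_pow_eq`: `R` henselian local, `m ≥ 1`, `π` in the maximal ideal: every element of
  `1 + m ^ 2 π R` is the `m`-th power of an element of `1 + m π R`.
-/

set_option autoImplicit false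

open Polynomial IsLocalRing

namespace Groth.Agent.Etbc.H197.PowHensel

/-- Hensel's lemma for arbitrary polynomials. -/
theorem exists_root {R : Type*} [CommRing R] [HenselianLocalRing R] (f : R[X]) (a₀ : R)
    (h1 : f.eval a₀ ∈ maximalIdeal R) (h2 : IsUnit (f.derivative.eval a₀)) :
    ∃ a : R, f.IsRoot a ∧ a - a₀ ∈ maximalIdeal R := by
  classical
  set g : R[X] := taylor a₀ f with hg
  set c : R := f.eval a₀ with hc
  set n : ℕ := g.natDegree + 2 with hn
  have g0 : g.coeff 0 = c := by rw [hg, taylor_coeff_zero]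
  have g1 : g.coeff 1 = f.derivative.eval a₀ := by rw [hg, taylor_coeff_one]
  -- the reversed polynomial
  let h : R[X] := X ^ n + ∑ i ∈ Finset.range n, C (g.coeff (i + 1) * c ^ i) * X ^ (n - 1 - i)
  have hdeg : (∑ i ∈ Finset.range n, C (g.coeff (i + 1) * c ^ i) * X ^ (n - 1 - i) : R[X]).degree < n := by
    refine (degree_sum_le _ _).trans_lt ?_
    rw [Finset.sup_lt_iff (by exact WithBot.bot_lt_coe _)]
    intro i _
    refine (degree_C_mul_X_pow_le _ _).trans_lt ?_
    exact_mod_cast (by omega : n - 1 - i < n)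
  have hmon : h.Monic := monic_X_pow_add hdeg
  -- evaluation modulo the maximal ideal
  have heval : ∀ w : R, h.eval w - (w ^ n + g.coeff 1 * w ^ (n - 1)) ∈ maximalIdeal R := by
    intro w
    have : h.eval w = w ^ n + (∑ i ∈ Finset.range (n - 1), g.coeff (i + 1 + 1) * c ^ (i + 1) * w ^ (n - 1 - (i + 1))
        + g.coeff 1 * w ^ (n - 1)) := by
      simp only [h, eval_add, eval_pow, eval_X, eval_finsetSum, eval_mul, eval_C]
      congr 1
      obtain ⟨k, hk⟩ : ∃ k, n = k + 1 := ⟨n - 1, by omega⟩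
      rw [hk, Finset.sum_range_succ']
      simp
    rw [this]
    have e : w ^ n + (∑ i ∈ Finset.range (n - 1), g.coeff (i + 1 + 1) * c ^ (i + 1) * w ^ (n - 1 - (i + 1))
        + g.coeff 1 * w ^ (n - 1)) - (w ^ n + g.coeff 1 * w ^ (n - 1)) =
        ∑ i ∈ Finset.range (n - 1), g.coeff (i + 1 + 1) * c ^ (i + 1) * w ^ (n - 1 - (i + 1)) := by ring
    rw [e]
    refine Submodule.sum_mem _ fun i _ => ?_
    refine Ideal.mul_mem_right _ _ (Ideal.mul_mem_left _ _ ?_)
    rw [pow_succ]
    exact Ideal.mul_mem_left _ _ h1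
  have hu : IsUnit (g.coeff 1) := by rw [g1]; exact h2
  have e1 : h.eval (- g.coeff 1) ∈ maximalIdeal R := by
    have := heval (- g.coeff 1)
    have e : (- g.coeff 1) ^ n + g.coeff 1 * (- g.coeff 1) ^ (n - 1) = 0 := by
      obtain ⟨k, hk⟩ : ∃ k, n = k + 1 := ⟨n - 1, by omega⟩
      rw [hk, Nat.add_sub_cancel]
      ring
    rwa [e, sub_zero] at this
  have e2 : IsUnit (h.derivative.eval (- g.coeff 1)) := by
    have hd : h.derivative.eval (- g.coeff 1) - (- g.coeff 1) ^ (n - 1) ∈ maximalIdeal R := by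
      have hsum : h = (X ^ n + C (g.coeff 1) * X ^ (n - 1)) +
          ∑ i ∈ Finset.range (n - 1), C (g.coeff (i + 1 + 1) * c ^ (i + 1)) * X ^ (n - 1 - (i + 1)) := by
        simp only [h]
        rw [add_assoc]
        congr 1
        obtain ⟨k, hk⟩ : ∃ k, n = k + 1 := ⟨n - 1, by omega⟩
        rw [hk, Finset.sum_range_succ', add_comm]
        simp
      have hder : h.derivative.eval (- g.coeff 1) =
          ((n : R) * (- g.coeff 1) ^ (n - 1) + g.coeff 1 * ((n - 1 : ℕ) * (- g.coeff 1) ^ (n - 1 - 1))) +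
          ∑ i ∈ Finset.range (n - 1), (g.coeff (i + 1 + 1) * c ^ (i + 1)) *
            (((n - 1 - (i + 1) : ℕ) : R) * (- g.coeff 1) ^ (n - 1 - (i + 1) - 1)) := by
        rw [hsum]
        simp only [derivative_add, derivative_sum, derivative_C_mul, derivative_X_pow, eval_add, eval_mul,
          eval_C, eval_pow, eval_X, eval_finsetSum, eval_natCast]
      rw [hder]
      have hmain : ((n : R) * (- g.coeff 1) ^ (n - 1) + g.coeff 1 * ((n - 1 : ℕ) * (- g.coeff 1) ^ (n - 1 - 1)))
          = (- g.coeff 1) ^ (n - 1) := by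
        obtain ⟨k, hk⟩ : ∃ k, n = k + 2 := ⟨n - 2, by omega⟩
        rw [hk]
        simp only [Nat.add_sub_cancel, show k + 2 - 1 = k + 1 from rfl, Nat.cast_add, Nat.cast_one, Nat.cast_ofNat]
        ring
      rw [hmain, add_sub_cancel_left]
      refine Submodule.sum_mem _ fun i _ => ?_
      refine Ideal.mul_mem_right _ _ (Ideal.mul_mem_left _ _ ?_)
      rw [pow_succ]
      exact Ideal.mul_mem_left _ _ h1
    by_contra hcon
    have h3 : h.derivative.eval (- g.coeff 1) ∈ maximalIdeal R := (mem_maximalIdeal _).2 hcon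
    have h4 : (- g.coeff 1) ^ (n - 1) ∈ maximalIdeal R := by
      have := Ideal.sub_mem _ h3 hd
      simpa using this
    exact ((mem_maximalIdeal _).1 h4) ((hu.neg).pow _)
  obtain ⟨w, hw, hw'⟩ := HenselianLocalRing.is_henselian h hmon (- g.coeff 1) e1 e2
  have hwu : IsUnit w := by
    by_contra hcon
    have h3 : w ∈ maximalIdeal R := (mem_maximalIdeal _).2 hcon
    have h4 : g.coeff 1 ∈ maximalIdeal R := by
      have := Ideal.sub_mem _ hw' h3
      simpa using this
    exact ((mem_maximalIdeal _).1 h4) hu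
  obtain ⟨w, rfl⟩ := hwu
  refine ⟨a₀ + c * ↑w⁻¹, ?_, ?_⟩
  · have hge : g.eval (c * ↑w⁻¹) = f.eval (a₀ + c * ↑w⁻¹) := by
      rw [hg, taylor_eval, add_comm]
    rw [IsRoot.def, ← hge]
    have key : g.eval (c * ↑w⁻¹) * (w : R) ^ n = c * h.eval (w : R) := by
      rw [eval_eq_sum_range' (n := n + 1) (by omega), Finset.sum_range_succ']
      simp only [h, eval_add, eval_pow, eval_X, eval_finsetSum, eval_mul, eval_C, pow_zero, mul_one, g0]
      rw [add_mul, Finset.sum_mul, mul_add, Finset.mul_sum, add_comm]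
      congr 1
      refine Finset.sum_congr rfl fun i hi => ?_
      rw [Finset.mem_range] at hi
      have : (w : R) ^ n = (w : R) ^ (n - 1 - i) * (w : R) ^ (i + 1) := by
        rw [← pow_add]; congr 1; omega
      rw [this, mul_pow]
      have hw1 : (↑w⁻¹ : R) ^ (i + 1) * (w : R) ^ (i + 1) = 1 := by
        rw [← mul_pow, Units.inv_mul, one_pow]
      calc g.coeff (i + 1) * (c ^ (i + 1) * (↑w⁻¹ : R) ^ (i + 1)) * ((w : R) ^ (n - 1 - i) * (w : R) ^ (i + 1))
          = g.coeff (i + 1) * c ^ (i + 1) * (w : R) ^ (n - 1 - i) * ((↑w⁻¹ : R) ^ (i + 1) * (w : R) ^ (i + 1)) := by ring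
        _ = c * (g.coeff (i + 1) * c ^ i * (w : R) ^ (n - 1 - i)) := by rw [hw1]; ring
    have hroot : h.eval (w : R) = 0 := hw
    rw [hroot, mul_zero] at key
    have := congrArg (· * (↑w⁻¹ : R) ^ n) key
    simp only [zero_mul, mul_assoc, ← mul_pow, Units.mul_inv, one_pow, mul_one] at this
    exact this
  · rw [add_sub_cancel_left]
    exact Ideal.mul_mem_right _ _ h1

/-- `(1 + m π t) ^ m = 1 + m ^ 2 π (t + π s)`: expansion. -/
theorem one_add_pow {R : Type*} [CommRing R] (m : ℕ) (π t : R) :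
    ∃ s : R, (1 + m * π * t) ^ m = 1 + (m : R) ^ 2 * π * (t + π * t ^ 2 * s) := by
  rcases Nat.lt_or_ge m 2 with hm | hm
  · interval_cases m
    · exact ⟨0, by simp⟩
    · exact ⟨0, by simp⟩
  · obtain ⟨k, rfl⟩ : ∃ k, m = k + 2 := ⟨m - 2, by omega⟩
    refine ⟨∑ i ∈ Finset.range (k + 1), ((k + 2 : ℕ) : R) ^ i * π ^ i * t ^ i * ((k + 2).choose (i + 2) : R), ?_⟩
    rw [add_comm (1 : R), add_pow]
    rw [Finset.sum_range_succ', Finset.sum_range_succ']
    simp only [pow_zero, one_pow, mul_one, Nat.choose_zero_right, Nat.cast_one, zero_add, pow_one,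
      Nat.choose_one_right]
    have : ∑ i ∈ Finset.range (k + 1), (((k + 2 : ℕ) : R) * π * t) ^ (i + 1 + 1) * ((k + 2).choose (i + 1 + 1) : R) =
        ((k + 2 : ℕ) : R) ^ 2 * π * (π * t ^ 2 * ∑ i ∈ Finset.range (k + 1), ((k + 2 : ℕ) : R) ^ i * π ^ i * t ^ i * ((k + 2).choose (i + 2) : R)) := by
      rw [Finset.mul_sum, Finset.mul_sum]
      refine Finset.sum_congr rfl fun i _ => ?_
      rw [show i + 1 + 1 = i + 2 from rfl]
      ring
    rw [this]
    ring

/-- Polynomial form of `one_add_pow`. -/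
theorem exists_poly {R : Type*} [CommRing R] (m : ℕ) (π : R) :
    ∃ s : R[X], ∀ t : R, (1 + m * π * t) ^ m = 1 + (m : R) ^ 2 * π * (t + π * t ^ 2 * s.eval t) := by
  obtain ⟨s, hs⟩ := one_add_pow (R := R[X]) m (C π) X
  refine ⟨s, fun t => ?_⟩
  have := congrArg (eval t) hs
  simpa using this

variable {R : Type*} [CommRing R] [HenselianLocalRing R]

theorem exists_pow_eq (m : ℕ) {π : R} (hπ : π ∈ maximalIdeal R) (w : R) :
    ∃ t : R, (1 + m * π * t) ^ m = 1 + (m : R) ^ 2 * π * w ∧ t - w ∈ maximalIdeal R := by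
  obtain ⟨s, hs⟩ := exists_poly m π
  let f : R[X] := X + C π * (X ^ 2 * s) - C w
  have h1 : f.eval w ∈ maximalIdeal R := by
    simp only [f, eval_sub, eval_add, eval_X, eval_mul, eval_C, add_sub_cancel_left]
    exact Ideal.mul_mem_right _ _ hπ
  have h2 : IsUnit (f.derivative.eval w) := by
    simp only [f, derivative_sub, derivative_add, derivative_X, derivative_C_mul, derivative_C, sub_zero,
      eval_add, eval_one, eval_mul, eval_C]
    by_contra hcon
    have h3 := (mem_maximalIdeal _).2 hcon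
    have h4 : (1 : R) ∈ maximalIdeal R := by
      have := Ideal.sub_mem _ h3 (Ideal.mul_mem_right ((X ^ 2 * s).derivative.eval w) _ hπ)
      simpa using this
    exact (Ideal.ne_top_iff_one _).1 (maximalIdeal.isMaximal R).ne_top h4
  obtain ⟨t, ht, ht'⟩ := exists_root f w h1 h2
  refine ⟨t, ?_, ht'⟩
  rw [hs]
  have : t + π * t ^ 2 * s.eval t = w := by
    have h3 : f.eval t = 0 := ht
    simp only [f, eval_sub, eval_add, eval_X, eval_mul, eval_C, eval_pow] at h3
    linear_combination h3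
  rw [this]

/-- If `m ≠ 0` in the domain `R` and `π ≠ 0` the `m`-th power is injective on `1 + m π R`. -/
theorem eq_zero_of_pow_eq_one [IsDomain R] (m : ℕ) {π : R} (hπ : π ∈ maximalIdeal R) (hπ0 : π ≠ 0)
    (hm : (m : R) ≠ 0) {t : R} (ht : (1 + m * π * t) ^ m = 1) : t = 0 := by
  obtain ⟨s, hs⟩ := one_add_pow m π t
  rw [hs] at ht
  have h1 : (m : R) ^ 2 * π * (t * (1 + π * t * s)) = 0 := by linear_combination ht
  have h2 : t * (1 + π * t * s) = 0 := by
    rcases mul_eq_zero.1 h1 with h | h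
    · exact absurd h (mul_ne_zero (pow_ne_zero _ hm) hπ0)
    · exact h
  rcases mul_eq_zero.1 h2 with h | h
  · exact h
  · exfalso
    have h4 : (1 : R) ∈ maximalIdeal R := by
      have h5 : π * (t * s) ∈ maximalIdeal R := Ideal.mul_mem_right _ _ hπ
      have : (1 : R) = - (π * (t * s)) := by linear_combination h
      rw [this]
      exact Ideal.neg_mem_iff _ |>.2 h5
    exact (Ideal.ne_top_iff_one _).1 (maximalIdeal.isMaximal R).ne_top h4

end Groth.Agent.Etbc.H197.PowHensel
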